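import Groth.Agent.DimMaps.Cases
import Mathlib

/-!
Morphisms to affine space over a base, on one fibre: finiteness, surjectivity, quasi-finite neighbourhood.
-/

set_option autoImplicit false
set_option backward.isDefEq.respectTransparency false
universe u
open CategoryTheory CategoryTheory.Limits AlgebraicGeometry TopologicalSpace MvPolynomial
open scoped TensorProduct

namespace Groth.Agent.AffFibre

variable (n : Type u) {Y : Scheme.{u}} (y : Y)

/-- The fibre of affine space over a point is affine space over the residue field. -/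
noncomputable def fibreIso :
    𝔸(n; Spec (Y.residueField y)) ≅ (𝔸(n; Y) ↘ Y).fiber y :=
  (AffineSpace.isPullback_map (n := n) (Y.fromSpecResidueField y)).isoPullback

theorem fibreIso_fiberι :
    (fibreIso n y).hom ≫ (𝔸(n; Y) ↘ Y).fiberι y = AffineSpace.map n (Y.fromSpecResidueField y) :=
  (AffineSpace.isPullback_map (n := n) (Y.fromSpecResidueField y)).isoPullback_hom_fst

theorem dim_affineSpace (k : Type u) [Field k] (e : ℕ) :
    topologicalKrullDim ↥(𝔸(ULift.{u} (Fin e); Spec (CommRingCat.of k))) = (e : WithBot ℕ∞) := by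
  rw [IsHomeomorph.topologicalKrullDim_eq _ (AffineSpace.SpecIso (ULift.{u} (Fin e)) (CommRingCat.of k)).hom.homeomorph.isHomeomorph]
  exact (PrimeSpectrum.topologicalKrullDim_eq_ringKrullDim _).trans (by
    rw [MvPolynomial.ringKrullDim_of_isNoetherianRing, ringKrullDim_eq_zero_of_field]; simp)

theorem irreducibleSpace_affineSpace (k : Type u) [Field k] :
    IrreducibleSpace ↥(𝔸(n; Spec (CommRingCat.of k))) := by
  haveI : IrreducibleSpace ↥(Spec (CommRingCat.of (MvPolynomial n k))) := inferInstance
  exact (AffineSpace.SpecIso n (CommRingCat.of k)).inv.homeomorph.surjective.irreducibleSpace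
    (AffineSpace.SpecIso n (CommRingCat.of k)).inv.continuous

theorem dim_add_one_le {T : Type u} [TopologicalSpace T] [IrreducibleSpace T] {A : Set T}
    (hA : IsClosed A) (hne : A.Nonempty) (hA' : A ≠ Set.univ) :
    topologicalKrullDim A + 1 ≤ topologicalKrullDim T := by
  obtain ⟨a, ha⟩ := hne
  let top : IrreducibleCloseds T := ⟨Set.univ, IrreducibleSpace.isIrreducible_univ T, isClosed_univ⟩
  have hind : Topology.IsInducing (Subtype.val : A → T) := Topology.IsInducing.subtypeVal
  let f : IrreducibleCloseds A → IrreducibleCloseds T := IrreducibleCloseds.map _ hind.continuous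
  have hf : StrictMono f := IrreducibleCloseds.map_strictMono_of_isInducing hind
  have hlt : ∀ C : IrreducibleCloseds A, f C < top := fun C => by
    refine lt_of_le_of_ne (fun _ _ => trivial) fun he => hA' (Set.eq_univ_of_forall fun b => ?_)
    have hb' : b ∈ closure (Subtype.val '' (C : Set A)) := by
      change b ∈ ((f C : IrreducibleCloseds T) : Set T)
      rw [he]; exact Set.mem_univ _
    exact closure_minimal (by rintro _ ⟨z, -, rfl⟩; exact z.2) hA hb'
  let g : WithTop (IrreducibleCloseds A) → IrreducibleCloseds T := fun C => C.elim top f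
  have hg : StrictMono g := by
    intro C D hCD
    cases C with
    | top => exact absurd hCD not_top_lt
    | coe c =>
      cases D with
      | top => exact hlt c
      | coe d => exact hf (WithTop.coe_lt_coe.mp hCD)
  haveI : Nonempty (IrreducibleCloseds A) :=
    ⟨⟨closure {(⟨a, ha⟩ : A)}, isIrreducible_singleton.closure, isClosed_closure⟩⟩
  have := Order.krullDim_le_of_strictMono g hg
  rwa [Order.krullDim_WithTop] at this

/-- A finite morphism into an irreducible scheme of the same finite dimension is surjective. -/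
theorem surjective_of_finite {P T : Scheme.{u}} (h : P ⟶ T) [IsFinite h] [IrreducibleSpace T] (e : ℕ)
    (hP : topologicalKrullDim P = (e : WithBot ℕ∞)) (hT : topologicalKrullDim T = (e : WithBot ℕ∞)) :
    Function.Surjective h.base := by
  rw [← Set.range_eq_univ]
  by_contra hne
  have h1 : topologicalKrullDim (Set.range h.base) = (e : WithBot ℕ∞) :=
    ((DimMaps.dim_finite h).1).symm.trans hP
  rcases (Set.range h.base).eq_empty_or_nonempty with h0 | h0
  · rw [h0] at h1
    rw [show topologicalKrullDim (∅ : Set T) = ⊥ from Order.krullDim_eq_bot_iff.mpr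
      ⟨fun C => C.2.nonempty.elim fun z _ => z.2.elim⟩] at h1
    exact WithBot.natCast_ne_bot _ h1.symm
  · have h2 := dim_add_one_le h.isClosedMap.isClosed_range h0 hne
    rw [h1, hT] at h2
    exact absurd h2 (not_le.mpr (by exact_mod_cast Nat.lt_succ_self e))

variable {n} {X : Scheme.{u}} {f : X ⟶ Y} (g : X ⟶ 𝔸(n; Y)) (hg : g ≫ (𝔸(n; Y) ↘ Y) = f)

/-- The source of the fibre map. -/
noncomputable def sourceIso : pullback g ((𝔸(n; Y) ↘ Y).fiberι y) ≅ f.fiber y :=
  pullbackRightPullbackFstIso _ _ g ≪≫ pullback.congrHom hg rfl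

/-- Quasi-finite near the fibre. -/
theorem exists_nhd (hfin : IsFinite (pullback.snd g ((𝔸(n; Y) ↘ Y).fiberι y))) [LocallyOfFiniteType g]
    (hg : g ≫ (𝔸(n; Y) ↘ Y) = f) :
    ∃ U : X.Opens, f.base ⁻¹' {y} ⊆ (U : Set X) ∧ LocallyQuasiFinite (U.ι ≫ g) := by
  refine ⟨g.quasiFiniteLocus, fun x hx => ?_, ?_⟩
  · set π := 𝔸(n; Y) ↘ Y
    set i := π.fiberι y
    set h := pullback.snd g i
    obtain ⟨q, hq⟩ : g x ∈ Set.range i := by
      rw [Scheme.Hom.range_fiberι]
      show (g ≫ π) x = y
      rw [hg]; exact hx
    rw [SetLike.mem_coe, Scheme.Hom.mem_quasiFiniteLocus,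
      Scheme.Hom.quasiFiniteAt_iff_isOpen_singleton_asFiber, ← (g.fiberHomeo (g x)).isOpen_image]
    haveI : DiscreteTopology ↥(g ⁻¹' {g x}) := by
      haveI hd : DiscreteTopology ↥(h ⁻¹' {q}) :=
        isDiscrete_iff_discreteTopology.mp (h.isDiscrete_preimage_singleton q)
      let φ : ↥(h ⁻¹' {q}) → ↥(g ⁻¹' {g x}) := fun z => ⟨pullback.fst g i z.1, by
        show (pullback.fst g i ≫ g) z.1 = g x
        rw [pullback.condition, Scheme.Hom.comp_apply, show h z.1 = q from z.2, hq]⟩
      have hsur : Function.Surjective φ := by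
        intro x'
        obtain ⟨z, hz1, hz2⟩ := Scheme.Pullback.exists_preimage_pullback x'.1 q (x'.2.trans hq.symm)
        exact ⟨⟨z, hz2⟩, Subtype.ext hz1⟩
      have hcont : Topology.IsInducing φ := by
        refine Topology.IsInducing.of_comp (by fun_prop) continuous_subtype_val ?_
        exact ((pullback.fst g i).isEmbedding.comp Topology.IsEmbedding.subtypeVal).isInducing
      let e : ↥(h ⁻¹' {q}) ≃ₜ ↥(g ⁻¹' {g x}) :=
        (Topology.IsEmbedding.mk hcont fun a b hab =>
          Subtype.ext ((pullback.fst g i).isEmbedding.injective (congrArg Subtype.val hab))).toHomeomorphOfSurjective hsur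
      exact e.discreteTopology
    exact isOpen_discrete _
  · rw [← Scheme.Hom.quasiFiniteLocus_eq_top_iff, Scheme.Hom.quasiFiniteLocus_comp]
    exact g.quasiFiniteLocus.ι_preimage_self

theorem homOfVector_eq {k S : CommRingCat.{u}} (φ : k ⟶ S) (t : n → S) :
    AffineSpace.homOfVector (Spec.map φ) (fun i => (Scheme.ΓSpecIso S).inv (t i)) =
      Spec.map (CommRingCat.ofHom (MvPolynomial.eval₂Hom φ.hom t)) ≫ (AffineSpace.SpecIso n k).inv := by
  apply AffineSpace.hom_ext
  · rw [AffineSpace.homOfVector_over, Category.assoc, AffineSpace.SpecIso_inv_over, ← Spec.map_comp]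
    congr 1
    ext a
    simp
  · intro i
    rw [AffineSpace.homOfVector_appTop_coord, Scheme.Hom.comp_appTop, CommRingCat.comp_apply,
      AffineSpace.SpecIso_inv_appTop_coord, ← CommRingCat.comp_apply,
      ← Scheme.ΓSpecIso_inv_naturality, CommRingCat.comp_apply]
    simp
    rfl

/-- A morphism to affine space over a field given by elements over which the source is finite is finite. -/
theorem isFinite_homOfVector {k S : CommRingCat.{u}} (φ : k ⟶ S) (t : n → S)
    (ht : (MvPolynomial.eval₂Hom φ.hom t).Finite) :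
    IsFinite (AffineSpace.homOfVector (Spec.map φ) (fun i => (Scheme.ΓSpecIso S).inv (t i))) := by
  rw [homOfVector_eq]
  haveI : IsFinite (Spec.map (CommRingCat.ofHom (MvPolynomial.eval₂Hom φ.hom t))) :=
    (IsFinite.SpecMap_iff _).2 ht
  infer_instance

end Groth.Agent.AffFibre
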