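import Groth.Agent.AffFibre.Basic
import Mathlib

/-!
Noether normalisation of a fibre by elements coming from the total space.
-/

set_option autoImplicit false
set_option backward.isDefEq.respectTransparency false
universe u
open CategoryTheory CategoryTheory.Limits AlgebraicGeometry MvPolynomial

namespace Groth.Agent.AffFibre

theorem subring_eq_top_of_isPushout {A B C P : CommRingCat.{u}} {f : A ⟶ B} {g : A ⟶ C} {i : B ⟶ P}
    {j : C ⟶ P} (h : IsPushout f g i j) :
    Subring.closure (Set.range i.hom ∪ Set.range j.hom) = ⊤ := by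
  set T := Subring.closure (Set.range i.hom ∪ Set.range j.hom)
  let i' : B ⟶ CommRingCat.of T := CommRingCat.ofHom
    (i.hom.codRestrict T fun b => Subring.subset_closure (Or.inl ⟨b, rfl⟩))
  let j' : C ⟶ CommRingCat.of T := CommRingCat.ofHom
    (j.hom.codRestrict T fun c => Subring.subset_closure (Or.inr ⟨c, rfl⟩))
  have w : f ≫ i' = g ≫ j' := by
    ext a
    exact congrArg (fun e : A ⟶ P => e.hom a) h.w
  let d := h.desc i' j' w
  have hd : d ≫ CommRingCat.ofHom T.subtype = 𝟙 P := by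
    apply h.hom_ext
    · rw [h.inl_desc_assoc, Category.comp_id]; rfl
    · rw [h.inr_desc_assoc, Category.comp_id]; rfl
  exact eq_top_iff.2 fun z _ => by
    have : ((d.hom z).1 : P) = z := congrArg (fun e : P ⟶ P => e.hom z) hd
    rw [← this]; exact (d.hom z).2

/-- Noether normalisation with elements of `B`. -/
theorem exists_vector {A B K S : Type u} [CommRing A] [CommRing B] [Field K] [CommRing S] [Nontrivial S]
    (ρ : A →+* K) (a : A →+* B) (ι : B →+* S) (φ : K →+* S) (w : ι.comp a = φ.comp ρ)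
    (hK : ∀ c : K, ∃ r s : A, ρ s ≠ 0 ∧ c * ρ s = ρ r)
    (hgen : Subring.closure (Set.range ι ∪ Set.range φ) = ⊤) (hft : φ.FiniteType) :
    ∃ (m : ℕ) (v : Fin m → B),
      (eval₂Hom φ fun l => ι (v l)).Finite ∧ Function.Injective (eval₂Hom φ fun l => ι (v l)) := by
  have hw : ∀ x, ι (a x) = φ (ρ x) := fun x => RingHom.congr_fun w x
  have key : ∀ z : S, ∃ (s : A) (b : B), ρ s ≠ 0 ∧ z * φ (ρ s) = ι b := by
    intro z
    induction (hgen ▸ Subring.mem_top z : z ∈ Subring.closure (Set.range ι ∪ Set.range φ))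
      using Subring.closure_induction with
    | mem x hx =>
      rcases hx with ⟨b, rfl⟩ | ⟨c, rfl⟩
      · exact ⟨1, b, by simp, by simp⟩
      · obtain ⟨r, s, hs, he⟩ := hK c
        exact ⟨s, a r, hs, by rw [← map_mul, he, hw]⟩
    | zero => exact ⟨1, 0, by simp, by simp⟩
    | one => exact ⟨1, 1, by simp, by simp⟩
    | add x y _ _ hx hy =>
      obtain ⟨s, b, hs, hb⟩ := hx
      obtain ⟨t, c, ht, hc⟩ := hy
      refine ⟨s * t, b * a t + c * a s, by simp [hs, ht], ?_⟩
      simp only [map_mul, map_add, hw, ← hb, ← hc]; ring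
    | neg x _ hx =>
      obtain ⟨s, b, hs, hb⟩ := hx
      exact ⟨s, -b, hs, by rw [map_neg, ← hb, neg_mul]⟩
    | mul x y _ _ hx hy =>
      obtain ⟨s, b, hs, hb⟩ := hx
      obtain ⟨t, c, ht, hc⟩ := hy
      refine ⟨s * t, b * c, by simp [hs, ht], ?_⟩
      simp only [map_mul, ← hb, ← hc]; ring
  letI := φ.toAlgebra
  haveI : Algebra.FiniteType K S := hft
  obtain ⟨m, g, hinj, hfin⟩ := exists_finite_inj_algHom_of_fg K S
  choose s b hs hb using fun l : Fin m => key (g (X l))
  let σ : MvPolynomial (Fin m) K →ₐ[K] MvPolynomial (Fin m) K := aeval fun l => C (ρ (s l)) * X l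
  let τ : MvPolynomial (Fin m) K →ₐ[K] MvPolynomial (Fin m) K := aeval fun l => C (ρ (s l))⁻¹ * X l
  have h1 : σ.comp τ = AlgHom.id K _ := by
    refine MvPolynomial.algHom_ext fun l => ?_
    simp only [σ, τ, AlgHom.comp_apply, AlgHom.id_apply, aeval_X, map_mul, algHom_C]
    rw [MvPolynomial.algebraMap_eq, ← mul_assoc, ← map_mul, inv_mul_cancel₀ (hs l), map_one, one_mul]
  have h2 : τ.comp σ = AlgHom.id K _ := by
    refine MvPolynomial.algHom_ext fun l => ?_
    simp only [σ, τ, AlgHom.comp_apply, AlgHom.id_apply, aeval_X, map_mul, algHom_C]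
    rw [MvPolynomial.algebraMap_eq, ← mul_assoc, ← map_mul, mul_inv_cancel₀ (hs l), map_one, one_mul]
  let e := AlgEquiv.ofAlgHom σ τ h1 h2
  have he : eval₂Hom φ (fun l => ι (b l)) = g.toRingHom.comp e.toAlgHom.toRingHom := by
    apply MvPolynomial.ringHom_ext
    · intro c
      simp only [eval₂Hom_C, RingHom.comp_apply, AlgHom.toRingHom_eq_coe, RingHom.coe_coe]
      rw [← MvPolynomial.algebraMap_eq, AlgHom.commutes, AlgHom.commutes]; rfl
    · intro l
      simp only [eval₂Hom_X', RingHom.comp_apply, AlgHom.toRingHom_eq_coe, RingHom.coe_coe]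
      show ι (b l) = g (σ (X l))
      simp only [σ, aeval_X, map_mul, ← MvPolynomial.algebraMap_eq, AlgHom.commutes]
      rw [← hb l, mul_comm]; rfl
  refine ⟨m, b, ?_, ?_⟩
  · rw [he]
    exact hfin.comp (RingHom.Finite.of_surjective _ e.surjective)
  · rw [he, RingHom.coe_comp]
    exact hinj.comp e.injective

theorem residueField_fraction {Y : Scheme.{u}} [IsAffine Y] (y : Y) (c : Y.residueField y) :
    ∃ r s : Γ(Y, ⊤), Y.evaluation ⊤ y trivial s ≠ 0 ∧
      c * Y.evaluation ⊤ y trivial s = Y.evaluation ⊤ y trivial r := by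
  obtain ⟨z, rfl⟩ := Y.residue_surjective y c
  letI := TopCat.Presheaf.algebra_section_stalk Y.presheaf (U := ⊤) ⟨y, trivial⟩
  haveI := (isAffineOpen_top Y).isLocalization_stalk ⟨y, trivial⟩
  obtain ⟨⟨r, s, hs⟩, h⟩ := IsLocalization.surj ((isAffineOpen_top Y).primeIdealOf ⟨y, trivial⟩).asIdeal.primeCompl z
  refine ⟨r, s, fun h0 => ?_, ?_⟩
  · have hu : IsUnit (Y.presheaf.germ ⊤ y trivial s) :=
      IsLocalization.map_units (Y.presheaf.stalk y) (⟨s, hs⟩ : ((isAffineOpen_top Y).primeIdealOf ⟨y, trivial⟩).asIdeal.primeCompl)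
    exact (hu.map (Y.residue y).hom).ne_zero h0
  · show Y.residue y z * Y.residue y _ = Y.residue y _
    rw [← map_mul]
    exact congrArg _ h

theorem fromSpecResidueField_appTop {Y : Scheme.{u}} (y : Y) :
    (Y.fromSpecResidueField y).appTop =
      Y.evaluation ⊤ y trivial ≫ (Scheme.ΓSpecIso (Y.residueField y)).inv := by
  simp only [Scheme.fromSpecResidueField, Scheme.Hom.comp_appTop, Scheme.fromSpecStalk_appTop]
  show _ = (Y.presheaf.germ ⊤ y trivial ≫ Y.residue y) ≫ _
  simp [Scheme.ΓSpecIso_inv_naturality]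

end Groth.Agent.AffFibre
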